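import Groth.Agent.S1833

/-! Lengths at generalisations against the length of the reduction by a regular element. -/

set_option autoImplicit false
set_option linter.style.haveILetI false

universe u

open Pointwise IsLocalRing

namespace Groth.Agent.LenSpecLib

/-- Two localisations of one module at a prime have the same length. -/
theorem length_eq_of_localizations {B : Type u} [CommRing B] (S : Submonoid B) {R R' : Type u} [CommRing R]
    [CommRing R'] [Algebra B R] [Algebra B R'] [IsLocalization S R] [IsLocalization S R']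
    {M L L' : Type u} [AddCommGroup M] [Module B M] [AddCommGroup L] [Module B L] [Module R L] [IsScalarTower B R L]
    [AddCommGroup L'] [Module B L'] [Module R' L'] [IsScalarTower B R' L']
    (g : M →ₗ[B] L) [IsLocalizedModule S g] (g' : M →ₗ[B] L') [IsLocalizedModule S g'] :
    Module.length R L = Module.length R' L' := by
  let e := IsLocalization.algEquiv S R R'
  letI : Algebra R R' := e.toAlgHom.toRingHom.toAlgebra
  letI : Module R L' := Module.compHom L' e.toAlgHom.toRingHom
  haveI : IsScalarTower R R' L' := .of_algebraMap_smul fun _ _ => rfl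
  haveI : IsScalarTower B R L' := .of_algebraMap_smul fun b l => by
    show e (algebraMap B R b) • l = b • l
    rw [AlgEquiv.commutes, algebraMap_smul]
  rw [← Module.length_eq_of_surjective (M := L') (show Function.Surjective (algebraMap R R') from e.surjective)]
  exact (LinearEquiv.extendScalarsOfIsLocalization S R
    ((IsLocalizedModule.iso S g).symm ≪≫ₗ IsLocalizedModule.iso S g')).length_eq

/-- The sum of the lengths at generalisations avoiding a regular element is at most the length of the
reduction. -/
theorem sum_length_le {B : Type u} [CommRing B] [IsNoetherianRing B] (M : Type u) [AddCommGroup M] [Module B M]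
    [Module.Finite B M] (Q : PrimeSpectrum B) (t : B) (ht : t ∈ Q.asIdeal)
    (hreg : IsSMulRegular (LocalizedModule Q.asIdeal.primeCompl M)
      (algebraMap B (Localization.AtPrime Q.asIdeal) t))
    (hmin : ∀ P ∈ Module.support B M, t ∈ P.asIdeal → P ≤ Q → P = Q)
    (T : Finset (PrimeSpectrum B)) (hT : ∀ P ∈ T, P ∈ Module.support B M ∧ P ≤ Q ∧ t ∉ P.asIdeal) :
    ∑ P ∈ T, Module.length (Localization.AtPrime P.asIdeal) (LocalizedModule P.asIdeal.primeCompl M) ≤
      Module.length (Localization.AtPrime Q.asIdeal) (LocalizedModule Q.asIdeal.primeCompl M ⧸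
        algebraMap B (Localization.AtPrime Q.asIdeal) t •
          (⊤ : Submodule (Localization.AtPrime Q.asIdeal) (LocalizedModule Q.asIdeal.primeCompl M))) := by
  classical
  set R := Localization.AtPrime Q.asIdeal
  set N := LocalizedModule Q.asIdeal.primeCompl M
  set x := algebraMap B R t
  haveI : IsNoetherianRing R := IsLocalization.isNoetherianRing Q.asIdeal.primeCompl R inferInstance
  haveI : Module.Finite R N := Module.Finite.of_isLocalizedModule Q.asIdeal.primeCompl
    (LocalizedModule.mkLinearMap Q.asIdeal.primeCompl M)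
  have hsupp : ∀ p : PrimeSpectrum R, p ∈ Module.support R N →
      PrimeSpectrum.comap (algebraMap B R) p ∈ Module.support B M := by
    intro p hp
    rw [Module.mem_support_iff'] at hp ⊢
    obtain ⟨n, hn⟩ := hp
    obtain ⟨⟨m, s⟩, hms⟩ := IsLocalizedModule.surj Q.asIdeal.primeCompl
      (LocalizedModule.mkLinearMap Q.asIdeal.primeCompl M) n
    refine ⟨m, fun r hr hrm => hn (algebraMap B R (r * s.1)) ?_ ?_⟩
    · rw [map_mul]
      exact p.2.mul_notMem hr fun hs =>
        p.2.ne_top (Ideal.eq_top_of_isUnit_mem _ hs (IsLocalization.map_units R s))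
    · have hms' : (s.1 : B) • n = LocalizedModule.mkLinearMap Q.asIdeal.primeCompl M m := hms
      rw [algebraMap_smul, mul_smul, hms', ← map_smul, hrm, map_zero]
  have hxm : x ∈ maximalIdeal R := by
    rw [← Localization.AtPrime.map_eq_maximalIdeal]; exact Ideal.mem_map_of_mem _ ht
  have h0 : Module.supportDim R (N ⧸ x • (⊤ : Submodule R N)) ≤ 0 := by
    refine Order.krullDim_nonpos_iff_forall_isMax.2 fun p q hpq => ?_
    have key : ∀ p : PrimeSpectrum R, p ∈ Module.support R (N ⧸ x • (⊤ : Submodule R N)) → p = closedPoint R := by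
      intro p hp
      rw [← Submodule.ideal_span_singleton_smul, Module.support_quotient] at hp
      have hxp : x ∈ p.asIdeal := hp.2 (Ideal.mem_span_singleton_self x)
      have h1 : PrimeSpectrum.comap (algebraMap B R) p ≤ Q := by
        show p.asIdeal.comap (algebraMap B R) ≤ Q.asIdeal
        intro b hb
        by_contra hbQ
        exact p.2.ne_top (Ideal.eq_top_of_isUnit_mem _ hb (IsLocalization.map_units R (⟨b, hbQ⟩ : Q.asIdeal.primeCompl)))
      have h2 := hmin _ (hsupp p hp.1) hxp h1
      refine PrimeSpectrum.ext ?_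
      rw [← IsLocalization.map_comap Q.asIdeal.primeCompl R p.asIdeal]
      show Ideal.map (algebraMap B R) (PrimeSpectrum.comap (algebraMap B R) p).asIdeal = _
      rw [h2]
      exact Localization.AtPrime.map_eq_maximalIdeal
    exact le_of_eq (Subtype.ext ((key q.1 q.2).trans (key p.1 p.2).symm))
  have h1 : Module.supportDim R N ≤ 1 := by
    refine (Module.supportDim_le_supportDim_quotSMulTop_succ hxm).trans ?_
    calc Module.supportDim R (N ⧸ x • (⊤ : Submodule R N)) + 1 ≤ 0 + 1 := by gcongr
      _ = 1 := zero_add _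
  rw [S1833.result R N x h1 h0]
  have hker : LinearMap.ker (LinearMap.lsmul R N x) = ⊥ := LinearMap.ker_eq_bot.2 hreg
  rw [hker, Module.length_bot, zero_add]
  let F : Set (PrimeSpectrum R) := {p | p ∈ Module.support R N ∧ p.asIdeal ≠ maximalIdeal R}
  have hmin' : ∀ p ∈ F, p.asIdeal ∈ (Module.annihilator R N).minimalPrimes := by
    intro p hp
    refine ⟨⟨p.2, (Module.mem_support_iff_of_finite).1 hp.1⟩, ?_⟩
    rintro J ⟨hJ, hann⟩ hJp
    by_contra hne
    have hJs : (⟨J, hJ⟩ : PrimeSpectrum R) ∈ Module.support R N := Module.mem_support_iff_of_finite.2 hann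
    have hm : closedPoint R ∈ Module.support R N := Module.mem_support_mono
      (show p ≤ closedPoint R from le_maximalIdeal p.2.ne_top) hp.1
    let s : LTSeries (Module.support R N) :=
      ((RelSeries.singleton _ ⟨⟨J, hJ⟩, hJs⟩).snoc ⟨p, hp.1⟩ (show (⟨J, hJ⟩ : PrimeSpectrum R) < p from
        lt_of_le_of_ne hJp fun h => hne (le_of_eq (congrArg PrimeSpectrum.asIdeal h).symm))).snoc ⟨closedPoint R, hm⟩
        (by simpa using (show p < closedPoint R from lt_of_le_of_ne (le_maximalIdeal p.2.ne_top)
          fun h => hp.2 (congrArg PrimeSpectrum.asIdeal h)))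
    have := (Order.LTSeries.length_le_krullDim s).trans h1
    simp [s] at this
  have hfin : F.Finite := by
    refine Set.Finite.of_finite_image (f := PrimeSpectrum.asIdeal) ?_ (fun a _ b _ h => PrimeSpectrum.ext h)
    exact (Module.annihilator R N).finite_minimalPrimes_of_isNoetherianRing.subset
      (Set.image_subset_iff.2 hmin')
  rw [show (∑ᶠ (p : PrimeSpectrum R) (_ : p ∈ Module.support R N ∧ p.asIdeal ≠ maximalIdeal R),
      Ring.ord (R ⧸ p.asIdeal) (Ideal.Quotient.mk p.asIdeal x) *
        Module.length (Localization.AtPrime p.asIdeal) (LocalizedModule p.asIdeal.primeCompl N)) =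
    ∑ p ∈ hfin.toFinset, Ring.ord (R ⧸ p.asIdeal) (Ideal.Quotient.mk p.asIdeal x) *
        Module.length (Localization.AtPrime p.asIdeal) (LocalizedModule p.asIdeal.primeCompl N) from
    finsum_mem_eq_finite_toFinset_sum _ hfin]
  have hdisj : ∀ P ∈ T, Disjoint (Q.asIdeal.primeCompl : Set B) (P.asIdeal : Set B) := fun P hP =>
    Set.disjoint_left.2 fun a ha haP => ha ((hT P hP).2.1 haP)
  let φ : T → PrimeSpectrum R := fun P => ⟨P.1.asIdeal.map (algebraMap B R),
    IsLocalization.isPrime_of_isPrime_disjoint Q.asIdeal.primeCompl _ _ P.1.2 (hdisj P.1 P.2)⟩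
  haveI hφp : ∀ P : T, (φ P).asIdeal.IsPrime := fun P => (φ P).2
  have hφ : ∀ P : T, (φ P).asIdeal.comap (algebraMap B R) = P.1.asIdeal := fun P =>
    IsLocalization.comap_map_of_isPrime_disjoint Q.asIdeal.primeCompl R P.1.2 (hdisj P.1 P.2)
  have hφi : Function.Injective φ := fun a b h => Subtype.ext (PrimeSpectrum.ext (by
    rw [← hφ a, ← hφ b, h]))
  have hlen : ∀ P : T, Module.length (Localization.AtPrime P.1.asIdeal) (LocalizedModule P.1.asIdeal.primeCompl M) =
      Module.length (Localization.AtPrime (φ P).asIdeal) (LocalizedModule (φ P).asIdeal.primeCompl N) := by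
    intro P
    let p := φ P
    haveI hpp : p.asIdeal.IsPrime := (φ P).2
    let Rp := Localization.AtPrime p.asIdeal
    let Np := LocalizedModule p.asIdeal.primeCompl N
    haveI : IsLocalization.AtPrime Rp (p.asIdeal.comap (algebraMap B R)) :=
      IsLocalization.isLocalization_atPrime_localization_atPrime Q.asIdeal.primeCompl p.asIdeal
    haveI : IsLocalization.AtPrime Rp P.1.asIdeal := by
      show IsLocalization P.1.asIdeal.primeCompl Rp
      have key : ∀ I : Ideal B, ∀ _ : I.IsPrime, I = P.1.asIdeal → IsLocalization I.primeCompl Rp →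
          IsLocalization P.1.asIdeal.primeCompl Rp := by
        intro I hI hIP h; subst hIP; exact h
      exact key _ inferInstance (hφ P) inferInstance
    haveI : IsScalarTower B Rp Np := .of_algebraMap_smul fun b v => by
      rw [IsScalarTower.algebraMap_apply B R Rp, algebraMap_smul, algebraMap_smul]
    let f₁ := LocalizedModule.mkLinearMap Q.asIdeal.primeCompl M
    let f₂ := LocalizedModule.mkLinearMap p.asIdeal.primeCompl N
    haveI : IsLocalizedModule P.1.asIdeal.primeCompl ((f₂.restrictScalars B).comp f₁) :=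
      (isLocalizedModule_iff_isBaseChange P.1.asIdeal.primeCompl Rp _).2
        (IsBaseChange.comp ((isLocalizedModule_iff_isBaseChange Q.asIdeal.primeCompl R f₁).1 inferInstance)
          ((isLocalizedModule_iff_isBaseChange p.asIdeal.primeCompl Rp f₂).1 inferInstance))
    exact length_eq_of_localizations P.1.asIdeal.primeCompl
      (LocalizedModule.mkLinearMap P.1.asIdeal.primeCompl M) ((f₂.restrictScalars B).comp f₁)
  rw [← T.sum_coe_sort]
  have hord : ∀ P : T, 1 ≤ Ring.ord (R ⧸ (φ P).asIdeal) (Ideal.Quotient.mk (φ P).asIdeal x) := by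
    intro P
    rw [ENat.one_le_iff_ne_zero, Ring.ord, ne_eq, Module.length_eq_zero_iff, not_subsingleton_iff_nontrivial, Ideal.Quotient.nontrivial_iff, ne_eq,
      Ideal.span_singleton_eq_top]
    intro hu
    haveI : IsLocalHom (Ideal.Quotient.mk (φ P).asIdeal) :=
      IsLocalHom.of_surjective _ Ideal.Quotient.mk_surjective
    exact (mem_maximalIdeal x).1 hxm (IsUnit.of_map (Ideal.Quotient.mk (φ P).asIdeal) x hu)
  calc ∑ P : T, Module.length (Localization.AtPrime P.1.asIdeal) (LocalizedModule P.1.asIdeal.primeCompl M)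
      ≤ ∑ P : T, Ring.ord (R ⧸ (φ P).asIdeal) (Ideal.Quotient.mk (φ P).asIdeal x) *
          Module.length (Localization.AtPrime (φ P).asIdeal) (LocalizedModule (φ P).asIdeal.primeCompl N) :=
        Finset.sum_le_sum fun P _ => by
          rw [hlen P]
          exact le_mul_of_one_le_left zero_le (hord P)
    _ = ∑ p ∈ Finset.univ.image φ, Ring.ord (R ⧸ p.asIdeal) (Ideal.Quotient.mk p.asIdeal x) *
          Module.length (Localization.AtPrime p.asIdeal) (LocalizedModule p.asIdeal.primeCompl N) :=
        (Finset.sum_image (f := fun p : PrimeSpectrum R => Ring.ord (R ⧸ p.asIdeal) (Ideal.Quotient.mk p.asIdeal x) *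
          Module.length (Localization.AtPrime p.asIdeal) (LocalizedModule p.asIdeal.primeCompl N)) hφi.injOn).symm
    _ ≤ _ := by
        refine Finset.sum_le_sum_of_subset fun p hp => ?_
        obtain ⟨P, -, rfl⟩ := Finset.mem_image.1 hp
        rw [Set.Finite.mem_toFinset]
        refine ⟨?_, fun h => (hT P.1 P.2).2.2 ?_⟩
        · have h := (Module.mem_support_iff (R := B) (M := M)).1 (hT P.1 P.2).1
          rw [← Module.length_pos_iff (R := Localization.AtPrime P.1.asIdeal)] at h
          rw [hlen P, Module.length_pos_iff] at h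
          exact Module.mem_support_iff.2 h
        · rw [← hφ P, Ideal.mem_comap, h]
          exact hxm

/-- A minimal prime over an associated prime and a regular element is associated to the reduction. -/
theorem mem_associatedPrimes_quotient {R : Type u} [CommRing R] [IsNoetherianRing R] [IsLocalRing R]
    (N : Type u) [AddCommGroup N] [Module R N] [Module.Finite R N] (x : R) (hxm : x ∈ maximalIdeal R)
    (hreg : IsSMulRegular N x) (p : Ideal R) (hp : p ∈ associatedPrimes R N)
    (hmin : ∀ q : Ideal R, q.IsPrime → p ≤ q → x ∈ q → q = maximalIdeal R) :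
    maximalIdeal R ∈ associatedPrimes R (N ⧸ x • (⊤ : Submodule R N)) := by
  classical
  obtain ⟨hpp, f, hf⟩ := (isAssociatedPrime_iff_exists_injective_linearMap p N).1 hp
  let n := f 1
  have hann : ∀ r : R, r • n = 0 ↔ r ∈ p := fun r => by
    show r • f 1 = 0 ↔ r ∈ p
    rw [← map_smul, map_eq_zero_iff f hf, Algebra.smul_def, mul_one]
    exact Ideal.Quotient.eq_zero_iff_mem
  have hn : n ≠ 0 := fun h => hpp.ne_top ((Ideal.eq_top_iff_one _).2 ((hann 1).1 (by rw [h, smul_zero])))
  have hk : ∃ k, n ∉ Ideal.span {x} ^ k • (⊤ : Submodule R N) := by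
    by_contra hc
    push Not at hc
    have h : n ∈ ⨅ k : ℕ, Ideal.span {x} ^ k • (⊤ : Submodule R N) := Submodule.mem_iInf _ |>.2 hc
    rw [Ideal.iInf_pow_smul_eq_bot_of_isLocalRing _
      (fun h => (mem_maximalIdeal x).1 hxm (Ideal.span_singleton_eq_top.1 h))] at h
    exact hn h
  obtain ⟨k, hk⟩ : ∃ k, Nat.find hk = k + 1 := by
    refine ⟨Nat.find hk - 1, (Nat.succ_pred_eq_of_ne_zero fun h => ?_).symm⟩
    have := Nat.find_spec hk
    rw [h, pow_zero, Ideal.one_eq_top, Submodule.top_smul] at this
    exact this trivial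
  have hmem : n ∈ Ideal.span {x} ^ k • (⊤ : Submodule R N) := by
    by_contra h
    have := Nat.find_min' ‹∃ k, n ∉ Ideal.span {x} ^ k • (⊤ : Submodule R N)› h
    omega
  have hnot : n ∉ Ideal.span {x} ^ (k + 1) • (⊤ : Submodule R N) := by
    rw [← hk]; exact Nat.find_spec ‹∃ k, n ∉ Ideal.span {x} ^ k • (⊤ : Submodule R N)›
  rw [Ideal.span_singleton_pow, Submodule.ideal_span_singleton_smul] at hmem hnot
  obtain ⟨n₀, -, hn₀⟩ := hmem
  have hn₀' : x ^ k • n₀ = n := hn₀
  let v : N ⧸ x • (⊤ : Submodule R N) := Submodule.Quotient.mk n₀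
  have hv : v ≠ 0 := fun h => by
    obtain ⟨w, -, hw⟩ := (Submodule.Quotient.mk_eq_zero _).1 h
    refine hnot ⟨w, trivial, ?_⟩
    show x ^ (k + 1) • w = n
    rw [pow_succ, mul_smul, show x • w = n₀ from hw, hn₀']
  let V := Submodule.span R {v}
  haveI : Nontrivial V := ⟨⟨⟨v, Submodule.mem_span_singleton_self v⟩, 0, fun h => hv (congrArg Subtype.val h)⟩⟩
  obtain ⟨P, hP⟩ := associatedPrimes.nonempty R V
  have hPann : ∀ r : R, r • v = 0 → r ∈ P := by
    intro r hr
    refine hP.annihilator_le (Submodule.mem_annihilator.2 fun w _ => Subtype.ext ?_)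
    obtain ⟨a, ha⟩ := Submodule.mem_span_singleton.1 w.2
    show r • (w : N ⧸ x • (⊤ : Submodule R N)) = 0
    rw [← ha, smul_comm, hr, smul_zero]
  have hPmax : P = maximalIdeal R := by
    refine hmin P hP.isPrime (fun r hr => hPann r ?_) (hPann x ?_)
    · show Submodule.Quotient.mk (r • n₀) = 0
      have h1 : r • n₀ = 0 := (hreg.pow k) (by
        show x ^ k • (r • n₀) = x ^ k • 0
        rw [smul_zero, smul_comm, hn₀', (hann r).2 hr])
      rw [h1, Submodule.Quotient.mk_zero]
    · show Submodule.Quotient.mk (x • n₀) = 0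
      exact (Submodule.Quotient.mk_eq_zero _).2 ⟨n₀, trivial, rfl⟩
  exact hPmax ▸ associatedPrimes.subset_of_injective V.injective_subtype hP

/-- Base change along a surjection with principal kernel is reduction by the generator. -/
theorem exists_equiv_of_surjective {O O' : Type u} [CommRing O] [CommRing O'] [Algebra O O']
    (hs : Function.Surjective (algebraMap O O')) (x : O) (hker : RingHom.ker (algebraMap O O') = Ideal.span {x})
    {F F' : Type u} [AddCommGroup F] [Module O F] [AddCommGroup F'] [Module O F'] [Module O' F']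
    [IsScalarTower O O' F'] (g : F →ₗ[O] F') (hg : IsBaseChange O' g) :
    Nonempty ((F ⧸ x • (⊤ : Submodule O F)) ≃ₗ[O] F') := by
  have hgs : Function.Surjective g := by
    intro v
    induction v using hg.inductionOn with
    | zero => exact ⟨0, map_zero g⟩
    | tmul m => exact ⟨m, rfl⟩
    | smul s v hv =>
      obtain ⟨m, rfl⟩ := hv
      obtain ⟨r, rfl⟩ := hs s
      exact ⟨r • m, by rw [map_smul, algebraMap_smul]⟩
    | add a b ha hb =>
      obtain ⟨m, rfl⟩ := ha
      obtain ⟨m', rfl⟩ := hb
      exact ⟨m + m', map_add g m m'⟩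
  let I := Ideal.span {x}
  let e : (O ⧸ I) ≃ₐ[O] O' := (Ideal.quotientEquivAlgOfEq O hker.symm).trans
    (Ideal.quotientKerAlgEquivOfSurjective (f := Algebra.ofId O O') hs)
  let E : (F ⧸ I • (⊤ : Submodule O F)) ≃ₗ[O] F' :=
    (TensorProduct.quotTensorEquivQuotSMul F I).symm ≪≫ₗ
      TensorProduct.congr e.toLinearEquiv (LinearEquiv.refl O F) ≪≫ₗ hg.equiv.restrictScalars O
  exact ⟨Submodule.quotEquivOfEq _ _ (Submodule.ideal_span_singleton_smul x ⊤).symm ≪≫ₗ E⟩

end Groth.Agent.LenSpecLib
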