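import Groth.Agent.LenSpecLib.Algebra
import Groth.Agent.AssLib.Basic
import Groth.Agent.FlatLocus.FibreStalk
import Groth.Agent.FlatLocus.ModFlat
import Groth.Agent.PullbackMod.Stalk
import Groth.Agent.QCohLib.FiniteType
import Groth.Prelude.Def_FlatMod2

/-! Stalks of the two fibres of a coherent module over a discrete valuation ring. -/

set_option autoImplicit false
set_option linter.style.haveILetI false
set_option backward.isDefEq.respectTransparency false

universe u

open CategoryTheory AlgebraicGeometry Pointwise IsLocalRing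

namespace Groth.Agent.LenSpecLib

/-- Associated maximal ideal, by an element. -/
theorem maximalIdeal_mem_associatedPrimes_iff {O : Type u} [CommRing O] [IsNoetherianRing O] [IsLocalRing O]
    (N : Type u) [AddCommGroup N] [Module O N] :
    maximalIdeal O ∈ associatedPrimes O N ↔ ∃ v : N, v ≠ 0 ∧ ∀ r ∈ maximalIdeal O, r • v = 0 := by
  constructor
  · intro h
    obtain ⟨hp, g, hg⟩ := (isAssociatedPrime_iff_exists_injective_linearMap _ N).1 h
    refine ⟨g 1, fun h0 => hp.ne_top ((Ideal.eq_top_iff_one _).2 (Ideal.Quotient.eq_zero_iff_mem.1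
      (hg (h0.trans (map_zero g).symm)))), fun r hr => ?_⟩
    rw [← map_smul, Algebra.smul_def, mul_one, show algebraMap O (O ⧸ maximalIdeal O) r = 0 from
      Ideal.Quotient.eq_zero_iff_mem.2 hr, map_zero]
  · rintro ⟨v, hv, hm⟩
    let V := Submodule.span O {v}
    haveI : Nontrivial V :=
      ⟨⟨⟨v, Submodule.mem_span_singleton_self v⟩, 0, fun h => hv (congrArg Subtype.val h)⟩⟩
    obtain ⟨P, hP⟩ := associatedPrimes.nonempty O V
    have hle : maximalIdeal O ≤ P := fun r hr => hP.annihilator_le
      (Submodule.mem_annihilator.2 fun w _ => Subtype.ext (by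
        obtain ⟨a, ha⟩ := Submodule.mem_span_singleton.1 w.2
        show r • (w : N) = 0
        rw [← ha, smul_comm, hm r hr, smul_zero]))
    rw [(IsLocalRing.maximalIdeal.isMaximal O).eq_of_le hP.isPrime.ne_top hle]
    exact associatedPrimes.subset_of_injective V.injective_subtype hP

/-- Two localisations of one module at a prime, reduced by one scalar, have the same length. -/
theorem length_quot_eq_of_localizations {B : Type u} [CommRing B] (S : Submonoid B) {R R' : Type u} [CommRing R]
    [CommRing R'] [Algebra B R] [Algebra B R'] [IsLocalization S R] [IsLocalization S R']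
    {M L L' : Type u} [AddCommGroup M] [Module B M] [AddCommGroup L] [Module B L] [Module R L] [IsScalarTower B R L]
    [AddCommGroup L'] [Module B L'] [Module R' L'] [IsScalarTower B R' L']
    (g : M →ₗ[B] L) [IsLocalizedModule S g] (g' : M →ₗ[B] L') [IsLocalizedModule S g'] (b : B) :
    Module.length R (L ⧸ algebraMap B R b • (⊤ : Submodule R L)) =
      Module.length R' (L' ⧸ algebraMap B R' b • (⊤ : Submodule R' L')) := by
  let e := IsLocalization.algEquiv S R R'
  letI : Algebra R R' := e.toAlgHom.toRingHom.toAlgebra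
  letI : Module R L' := Module.compHom L' e.toAlgHom.toRingHom
  haveI : IsScalarTower R R' L' := .of_algebraMap_smul fun _ _ => rfl
  haveI : IsScalarTower B R L' := .of_algebraMap_smul fun c l => by
    show e (algebraMap B R c) • l = c • l
    rw [AlgEquiv.commutes, algebraMap_smul]
  rw [← Module.length_eq_of_surjective (M := L' ⧸ algebraMap B R' b • (⊤ : Submodule R' L'))
    (show Function.Surjective (algebraMap R R') from e.surjective)]
  let E : L ≃ₗ[R] L' := LinearEquiv.extendScalarsOfIsLocalization S R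
    ((IsLocalizedModule.iso S g).symm ≪≫ₗ IsLocalizedModule.iso S g')
  have hb : algebraMap R R' (algebraMap B R b) = algebraMap B R' b := e.commutes b
  refine ((Submodule.Quotient.equiv (algebraMap B R b • (⊤ : Submodule R L))
    ((algebraMap B R' b • (⊤ : Submodule R' L')).restrictScalars R) E ?_).trans
      (Submodule.Quotient.restrictScalarsEquiv R _)).length_eq
  ext v
  constructor
  · rintro ⟨_, ⟨w, -, rfl⟩, rfl⟩
    refine ⟨E w, trivial, ?_⟩
    show algebraMap B R' b • E w = E (algebraMap B R b • w)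
    rw [E.map_smul, ← algebraMap_smul R' (algebraMap B R b) (E w), hb]
  · rintro ⟨w, -, rfl⟩
    refine ⟨algebraMap B R b • E.symm w, ⟨E.symm w, trivial, rfl⟩, ?_⟩
    show E (algebraMap B R b • E.symm w) = algebraMap B R' b • w
    rw [E.map_smul, E.apply_symm_apply, ← algebraMap_smul R' (algebraMap B R b) w, hb]

variable {X : Scheme.{u}}

/-- A stalk of a fibre of a module, as a reduction of the stalk. -/
theorem fibre_stalk {S : Scheme.{u}} (f : X ⟶ S) (F : X.Modules) [Coh.IsQCoh F] [IsLocallyNoetherian X] (s : S)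
    (z : f.fiber s) (u : X.presheaf.stalk (f.fiberι s z))
    (hu : (maximalIdeal (S.presheaf.stalk (f (f.fiberι s z)))).map (f.stalkMap (f.fiberι s z)).hom = Ideal.span {u}) :
    letI x := f.fiberι s z
    letI F' := (Scheme.Modules.pullback (f.fiberι s)).obj F
    Module.length ((f.fiber s).presheaf.stalk z) (F'.presheaf.stalk z) =
        Module.length (X.presheaf.stalk x) (F.presheaf.stalk x ⧸ u • (⊤ : Submodule (X.presheaf.stalk x) (F.presheaf.stalk x))) ∧
      (maximalIdeal (X.presheaf.stalk x) ∈ associatedPrimes (X.presheaf.stalk x)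
          (F.presheaf.stalk x ⧸ u • (⊤ : Submodule (X.presheaf.stalk x) (F.presheaf.stalk x))) →
        Curv2.IsAssPoint F' z) := by
  let g := f.fiberι s
  let x := g z
  let O := X.presheaf.stalk x
  let O' := (f.fiber s).presheaf.stalk z
  let F' := (Scheme.Modules.pullback g).obj F
  letI : Algebra O O' := (g.stalkMap z).hom.toAlgebra
  letI : Module O (F'.presheaf.stalk z) := Module.compHom (F'.presheaf.stalk z) (g.stalkMap z).hom
  haveI : IsScalarTower O O' (F'.presheaf.stalk z) := .of_algebraMap_smul fun _ _ => rfl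
  have hs : Function.Surjective (algebraMap O O') := FlatLocus.fiberι_stalkMap_surjective f s z
  have hker : RingHom.ker (algebraMap O O') = Ideal.span {u} := by
    rw [← hu]; exact FlatLocus.ker_fiberι_stalkMap f s z
  obtain ⟨E⟩ := exists_equiv_of_surjective hs u hker _ (PullbackMod.isBaseChange_pullStalkL g F z)
  refine ⟨?_, fun h => ?_⟩
  · rw [← Module.length_eq_of_surjective (M := F'.presheaf.stalk z) hs]
    exact E.symm.length_eq
  · haveI : IsNoetherianRing O' := isNoetherianRing_of_surjective O O' (algebraMap O O') hs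
    haveI : IsLocalHom (algebraMap O O') := IsLocalHom.of_surjective _ hs
    obtain ⟨v, hv, hm⟩ := (maximalIdeal_mem_associatedPrimes_iff _).1 h
    show maximalIdeal O' ∈ associatedPrimes O' (F'.presheaf.stalk z)
    refine (maximalIdeal_mem_associatedPrimes_iff _).2 ⟨E v, fun h0 => hv (E.map_eq_zero_iff.1 h0), fun r hr => ?_⟩
    obtain ⟨r, rfl⟩ := hs r
    rw [algebraMap_smul, ← E.map_smul, hm r ((mem_maximalIdeal r).2 fun hru => (mem_maximalIdeal _).1 hr (hru.map _)),
      map_zero]

variable {A : Type u} [CommRing A] [IsDomain A] [IsDiscreteValuationRing A] (f : X ⟶ Spec (CommRingCat.of A))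

/-- Every point of `Spec A` is the closed or the generic one. -/
theorem eq_closed_or_generic (s : ↥(Spec (CommRingCat.of A))) :
    s = closedPoint A ∨ s = genericPoint (Spec (CommRingCat.of A)) := by
  by_cases h : s.asIdeal = ⊥
  · right
    rw [genericPoint_eq_bot_of_affine]
    exact PrimeSpectrum.ext h
  · left
    exact PrimeSpectrum.ext (IsLocalRing.eq_maximalIdeal (s.2.isMaximal h))

theorem closed_ne_generic : (closedPoint A : ↥(Spec (CommRingCat.of A))) ≠ genericPoint (Spec (CommRingCat.of A)) := by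
  rw [genericPoint_eq_bot_of_affine]
  intro h
  exact IsDiscreteValuationRing.not_a_field A (congrArg PrimeSpectrum.asIdeal h)

/-- The pullback of a uniformizer. -/
noncomputable def unif (ϖ : A) {W : X.Opens} : Γ(X, W) :=
  (f.appLE ⊤ W (by simp)).hom ((Scheme.ΓSpecIso (CommRingCat.of A)).inv.hom ϖ)

theorem mem_basicOpen_unif {ϖ : A} (hϖ : Irreducible ϖ) {W : X.Opens} {x : X} (hx : x ∈ W) :
    x ∈ X.basicOpen (unif f ϖ (W := W)) ↔ f x ≠ closedPoint A := by
  rw [unif, Scheme.Hom.appLE, CommRingCat.hom_comp, RingHom.comp_apply]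
  erw [Scheme.basicOpen_res]
  rw [← Scheme.Hom.preimage_basicOpen, basicOpen_eq_of_affine]
  simp only [Iso.inv_hom_id_apply]
  show x ∈ W ∧ ϖ ∉ (f x).asIdeal ↔ _
  refine ⟨fun h hc => h.2 ?_, fun h => ⟨hx, fun hm => h ?_⟩⟩
  · rw [hc]
    exact hϖ.not_isUnit
  · rcases eq_closed_or_generic (f x) with e | e
    · exact e
    · rw [e, genericPoint_eq_bot_of_affine] at hm
      exact absurd hm hϖ.ne_zero

/-- Over the generic point the maximal ideal is zero, over the closed one it is generated by the uniformizer. -/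
theorem map_maximal_generic (x : X) (h : f x = genericPoint (Spec (CommRingCat.of A))) :
    (maximalIdeal ((Spec (CommRingCat.of A)).presheaf.stalk (f x))).map (f.stalkMap x).hom = Ideal.span {0} := by
  have key : ∀ s, s = genericPoint (Spec (CommRingCat.of A)) →
      IsField ((Spec (CommRingCat.of A)).presheaf.stalk s) := by
    intro s hs; subst hs
    exact (Semifield.toIsField (Spec (CommRingCat.of A)).functionField)
  rw [(IsLocalRing.isField_iff_maximalIdeal_eq).1 (key _ h), Ideal.map_bot, Ideal.span_singleton_zero]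

theorem map_maximal_closed {ϖ : A} (hϖ : Irreducible ϖ) {W : X.Opens} {x : X} (hx : x ∈ W)
    (h : f x = closedPoint A) :
    (maximalIdeal ((Spec (CommRingCat.of A)).presheaf.stalk (f x))).map (f.stalkMap x).hom =
      Ideal.span {(X.presheaf.germ W x hx).hom (unif f ϖ)} := by
  let S := Spec (CommRingCat.of A)
  have hU : IsAffineOpen (⊤ : S.Opens) := isAffineOpen_top S
  have hgerm : (X.presheaf.germ W x hx).hom (unif f ϖ) =
      (f.stalkMap x).hom ((S.presheaf.germ ⊤ (f x) trivial).hom ((Scheme.ΓSpecIso (CommRingCat.of A)).inv.hom ϖ)) := by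
    rw [Scheme.Hom.germ_stalkMap_apply, unif, Scheme.Hom.appLE, CommRingCat.hom_comp, RingHom.comp_apply]
    exact TopCat.Presheaf.germ_res_apply _ _ _ _ _
  rw [hgerm, ← Set.image_singleton, ← Ideal.map_span]
  congr 1
  letI : Algebra Γ(S, ⊤) (S.presheaf.stalk (f x)) := TopCat.Presheaf.algebra_section_stalk S.presheaf (⟨f x, trivial⟩ : (⊤ : S.Opens))
  haveI := hU.isLocalization_stalk ⟨f x, trivial⟩
  rw [← IsLocalization.AtPrime.map_eq_maximalIdeal (hU.primeIdealOf ⟨f x, trivial⟩).asIdeal (S.presheaf.stalk (f x)),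
    show Ideal.span {(S.presheaf.germ ⊤ (f x) trivial).hom ((Scheme.ΓSpecIso (CommRingCat.of A)).inv.hom ϖ)} =
      (Ideal.span {(Scheme.ΓSpecIso (CommRingCat.of A)).inv.hom ϖ}).map (algebraMap Γ(S, ⊤) (S.presheaf.stalk (f x))) from by
      rw [Ideal.map_span, Set.image_singleton]; rfl]
  congr 1
  let e : A ≃+* Γ(S, ⊤) := (Scheme.ΓSpecIso (CommRingCat.of A)).symm.commRingCatIsoToRingEquiv
  have hP : e ϖ ∈ (hU.primeIdealOf ⟨f x, trivial⟩).asIdeal := by
    by_contra hP
    have hb : f x ∈ S.basicOpen (e ϖ) := by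
      have := SetLike.ext_iff.mp (hU.fromSpec_preimage_basicOpen (e ϖ)) (hU.primeIdealOf ⟨f x, trivial⟩)
      rw [Scheme.Hom.mem_preimage, hU.fromSpec_primeIdealOf] at this
      exact this.2 hP
    have hb' : f x ∈ PrimeSpectrum.basicOpen ϖ := by
      have hb2 : f x ∈ S.basicOpen ((Scheme.ΓSpecIso (CommRingCat.of A)).inv.hom ϖ) := hb
      rw [basicOpen_eq_of_affine] at hb2
      simpa using hb2
    rw [h] at hb'
    exact hb' hϖ.not_isUnit
  have hmax : Ideal.span {e ϖ} = (maximalIdeal A).map e.toRingHom := by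
    rw [hϖ.maximalIdeal_eq, Ideal.map_span, Set.image_singleton]; rfl
  have : (Ideal.span {e ϖ}).IsMaximal := by
    rw [hmax]
    exact Ideal.map_isMaximal_of_equiv e
  exact this.eq_of_le (hU.primeIdealOf ⟨f x, trivial⟩).2.ne_top (Ideal.span_singleton_le_iff_mem _ |>.2 hP)
    |>.symm

theorem regular_unif {ϖ : A} (hϖ : Irreducible ϖ) (F : X.Modules) (hF : FlatMod.IsFlatOver f F) {W : X.Opens}
    {x : X} (hx : x ∈ W) : IsSMulRegular (F.presheaf.stalk x) ((X.presheaf.germ W x hx).hom (unif f ϖ)) := by
  let S := Spec (CommRingCat.of A)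
  letI := FlatMod.moduleStalkOver f F x
  haveI : Module.Flat (S.presheaf.stalk (f x)) (F.presheaf.stalk x) := hF x
  let b := (S.presheaf.germ ⊤ (f x) trivial).hom ((Scheme.ΓSpecIso (CommRingCat.of A)).inv.hom ϖ)
  have hb : b ≠ 0 := by
    intro h0
    have hinj := germ_injective_of_isIntegral S (U := ⊤) (f x) trivial
    have : (Scheme.ΓSpecIso (CommRingCat.of A)).inv.hom ϖ = 0 := hinj (by rw [map_zero]; exact h0)
    exact hϖ.ne_zero (by simpa using congrArg (Scheme.ΓSpecIso (CommRingCat.of A)).hom.hom this)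
  have hbreg : IsSMulRegular (S.presheaf.stalk (f x)) b := fun p q hpq => mul_left_cancel₀ hb hpq
  have hr : IsSMulRegular (F.presheaf.stalk x) b := by
    have h1 := hbreg.lTensor (F.presheaf.stalk x)
    exact (TensorProduct.rid (S.presheaf.stalk (f x)) (F.presheaf.stalk x)).symm.toEquiv.isSMulRegular_congr
      (fun v => (TensorProduct.rid _ _).symm.map_smul b v) |>.2 h1
  have hgerm : (X.presheaf.germ W x hx).hom (unif f ϖ) = (f.stalkMap x).hom b := by
    rw [Scheme.Hom.germ_stalkMap_apply, unif, Scheme.Hom.appLE, CommRingCat.hom_comp, RingHom.comp_apply]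
    exact TopCat.Presheaf.germ_res_apply _ _ _ _ _
  rw [hgerm]
  exact hr

end Groth.Agent.LenSpecLib
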